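import Groth.Agent.Fano.K745.StDef
import Groth.Agent.Fano.K745.HDef

/-!
# Field valued points of the space of conics and the stack of maps of degree two

* `eqv_of_hom` (node V7): two field valued points of `VG G` with isomorphic families differ by a change of coordinates;
* `exists_hom_of_eqv` (node V8): the converse.

The calculus of data (nodes P1, P2, P3, P3b, P4 of `K745.PlanS`) is taken as a hypothesis.
-/

set_option autoImplicit false

universe u

open CategoryTheory CategoryTheory.Limits AlgebraicGeometry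

namespace K464.StEqv

open K390.PnSec Groth.Agent.Fdesc.LocGen K188.LineDef K745.ConDef K745.HDef K745.StDef W4swstmapratcurves

section Alg

variable {A B : Type u} [CommRing A] [CommRing B]

theorem map_lin3 (e : A →+* B) (v : Fin 3 → A) : (lin3 v).map e = lin3 fun i => e (v i) := by
  simp [lin3]

theorem map_comp3 (e : A →+* B) (F : MvPolynomial (Fin 3) A) (g : Matrix (Fin 3) (Fin 3) A) :
    (comp3 F g).map e = comp3 (F.map e) (g.map e) := by
  have h : (MvPolynomial.map e).comp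
        (MvPolynomial.aeval (R := A) (fun i => lin3 (g i)) : MvPolynomial (Fin 3) A →ₐ[A] MvPolynomial (Fin 3) A).toRingHom =
      ((MvPolynomial.aeval (R := B) (fun i => lin3 (g.map e i)) :
        MvPolynomial (Fin 3) B →ₐ[B] MvPolynomial (Fin 3) B).toRingHom).comp (MvPolynomial.map e) := by
    refine MvPolynomial.ringHom_ext (fun r => ?_) fun i => ?_
    · simp
    · simp only [AlgHom.toRingHom_eq_coe, RingHom.coe_comp, RingHom.coe_coe, Function.comp_apply,
        MvPolynomial.aeval_X, MvPolynomial.map_X]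
      exact map_lin3 e (g i)
  exact DFunLike.congr_fun h F

end Alg

variable {k : Type u} [Field k] {n d : ℕ} {G : LefPen.Form n k d}

theorem pb_cAt {T : Scheme.{u}} (t : T ⟶ VG G.1) (i : Fin 5) : pb t (cAt (𝟙 (VG G.1)) i) = cAt t i := by
  unfold cAt pb
  rw [Category.id_comp, Scheme.Hom.comp_appTop]
  rfl

theorem pb_φAt {T : Scheme.{u}} (t : T ⟶ VG G.1) (l : Fin (n + 1)) (i : Fin 3) :
    pb t (φAt (𝟙 (VG G.1)) l i) = φAt t l i := by
  unfold φAt pb
  rw [Category.id_comp, Scheme.Hom.comp_appTop]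
  rfl

variable {Ω : Type u} [Field Ω]

/-- Functions on the spectrum of `Ω`. -/
noncomputable abbrev iΩ (Ω : Type u) [Field Ω] : Ω →+* Γ(Spec (CommRingCat.of Ω), ⊤) :=
  (Scheme.ΓSpecIso (CommRingCat.of Ω)).inv.hom

/-- Functions on the spectrum of `Ω`. -/
noncomputable abbrev jΩ (Ω : Type u) [Field Ω] : Γ(Spec (CommRingCat.of Ω), ⊤) →+* Ω :=
  (Scheme.ΓSpecIso (CommRingCat.of Ω)).hom.hom

theorem j_i (a : Ω) : jΩ Ω (iΩ Ω a) = a := by
  simp

theorem i_j (a : Γ(Spec (CommRingCat.of Ω), ⊤)) : iΩ Ω (jΩ Ω a) = a := by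
  simp

theorem at_eq {x : RC G.1} {t : Spec (CommRingCat.of Ω) ⟶ VG G.1} {a : RC G.1 →+* Ω}
    (h : t ≫ (VO G.1).ι = Spec.map (CommRingCat.ofHom a)) :
    (t ≫ (VO G.1).ι).appTop ((Scheme.ΓSpecIso (CommRingCat.of (RC G.1))).inv x) = iΩ Ω (a x) := by
  rw [h]
  exact (congrArg (fun φ => φ.hom x) (Scheme.ΓSpecIso_inv_naturality (CommRingCat.ofHom a))).symm

theorem cAt_eq {t : Spec (CommRingCat.of Ω) ⟶ VG G.1} {a : RC G.1 →+* Ω}
    (h : t ≫ (VO G.1).ι = Spec.map (CommRingCat.ofHom a)) (i : Fin 5) :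
    cAt t i = iΩ Ω (a (mkR G.1 (cU n k i))) := at_eq h

theorem φAt_eq {t : Spec (CommRingCat.of Ω) ⟶ VG G.1} {a : RC G.1 →+* Ω}
    (h : t ≫ (VO G.1).ι = Spec.map (CommRingCat.ofHom a)) (l : Fin (n + 1)) (i : Fin 3) :
    φAt t l i = iΩ Ω (a (mkR G.1 (φU n k l i))) := at_eq h

/-- The ring homomorphism of a field valued point. -/
theorem exists_ring (t : Spec (CommRingCat.of Ω) ⟶ VG G.1) :
    ∃ a : RC G.1 →+* Ω, t ≫ (VO G.1).ι = Spec.map (CommRingCat.ofHom a) :=
  ⟨(Spec.preimage (t ≫ (VO G.1).ι)).hom, by rw [CommRingCat.ofHom_hom, Spec.map_preimage]⟩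

/-- The kernel of the ring homomorphism of a field valued point. -/
theorem ker_eq {t : Spec (CommRingCat.of Ω) ⟶ VG G.1} {a : RC G.1 →+* Ω}
    (h : t ≫ (VO G.1).ι = Spec.map (CommRingCat.ofHom a)) (z : Spec (CommRingCat.of Ω)) {v : VG G.1}
    (hv : t z = v) : RingHom.ker a = v.1.asIdeal := by
  let z' : PrimeSpectrum Ω := z
  have h1 : (VO G.1).ι (t z) = (Spec.map (CommRingCat.ofHom a)) z := by
    rw [← h]; simp
  have h2 : v.1 = PrimeSpectrum.comap a z' := by
    rw [← hv]; exact h1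
  have h3 : z'.asIdeal = ⊥ := by
    rcases Ideal.eq_bot_or_top z'.asIdeal with h | h
    · exact h
    · exact absurd h z'.isPrime.ne_top
  rw [h2]
  change RingHom.ker a = Ideal.comap a z'.asIdeal
  rw [h3]
  rfl

theorem map_algebraMap {t : Spec (CommRingCat.of Ω) ⟶ VG G.1} {a : RC G.1 →+* Ω}
    (h : t ≫ (VO G.1).ι = Spec.map (CommRingCat.ofHom a)) :
    Spec.map (CommRingCat.ofHom (a.comp (algebraMap k (RC G.1)))) = t ≫ (VGk G.1).hom := by
  rw [CommRingCat.ofHom_comp (algebraMap k (RC G.1)) a, Spec.map_comp, ← h, Category.assoc]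
  rfl

/-- Two field valued points of `VG G` with data of the same family which differ by a matrix are equivalent. -/
theorem eqv_of_isMat {s : Spec (CommRingCat.of Ω) ⟶ Spec (CommRingCat.of k)} {t t' : Spec (CommRingCat.of Ω) ⟶ VG G.1}
    (ht : t ≫ (VGk G.1).hom = s) (ht' : t' ≫ (VGk G.1).hom = s) {v v' : VG G.1} (hv : ∀ z, t z = v)
    (hv' : ∀ z, t' z = v') (g : Matrix (Fin 3) (Fin 3) Γ(Spec (CommRingCat.of Ω), ⊤)) (hg : IsUnit g.det)
    (w : Γ(Spec (CommRingCat.of Ω), ⊤)) (hw : IsUnit w)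
    (hq : comp3 (qf (cAt t')) g = MvPolynomial.C w * qf (cAt t))
    (hφ : ∀ l j, φAt t l j = ∑ i, φAt t' l i * g i j) : Eqv G.1 v.1 v'.1 := by
  obtain ⟨a, ha⟩ := exists_ring t
  obtain ⟨a', ha'⟩ := exists_ring t'
  let z : Spec (CommRingCat.of Ω) := IsLocalRing.closedPoint Ω
  refine ⟨Ω, inferInstance, a, a', ker_eq ha z (hv z), ker_eq ha' z (hv' z), ?_, g.map (jΩ Ω), jΩ Ω w, ?_, ?_, ?_, ?_⟩
  · have h1 : Spec.map (CommRingCat.ofHom (a.comp (algebraMap k (RC G.1)))) =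
        Spec.map (CommRingCat.ofHom (a'.comp (algebraMap k (RC G.1)))) :=
      (map_algebraMap ha).trans ((ht.trans ht'.symm).trans (map_algebraMap ha').symm)
    exact congrArg CommRingCat.Hom.hom (Spec.map_injective h1)
  · have h1 := RingHom.map_det (jΩ Ω) g
    have h2 : g.map (jΩ Ω) = (jΩ Ω).mapMatrix g := rfl
    rw [h2, ← h1]
    exact hg.map _
  · exact (hw.map (jΩ Ω)).ne_zero
  · have h1 := congrArg (MvPolynomial.map (jΩ Ω)) hq
    rw [map_comp3, map_qf, map_mul, map_qf, MvPolynomial.map_C] at h1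
    simpa only [cAt_eq ha, cAt_eq ha', j_i] using h1
  · intro l j
    have h1 := congrArg (jΩ Ω) (hφ l j)
    rw [map_sum] at h1
    simpa only [φAt_eq ha, φAt_eq ha', j_i, map_mul, Matrix.map_apply] using h1

/-- Node V7 of `K745.PlanS`. -/
theorem eqv_of_hom (P1 : ∀ {A A' : Fam G} (h : A ⟶ A') (D' : Datum A'), ∃ D : Datum A, IsPull D D' h)
    (P3 : ∀ {A : Fam G} (D D' : Datum A), ∃! g : Matrix (Fin 3) (Fin 3) Γ(A.base.left, ⊤), IsMat D D' g)
    (P3b : ∀ {A : Fam G} {D D' : Datum A} {g : Matrix (Fin 3) (Fin 3) Γ(A.base.left, ⊤)}, IsMat D D' g →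
      IsUnit g.det ∧ ∃ w : Γ(A.base.left, ⊤), IsUnit w ∧ comp3 (qf D'.c) g = MvPolynomial.C w * qf D.c)
    (U : Univ G) (Z : (Mst G).obj) (Ω : Type u) [Field Ω]
    (s : Spec (CommRingCat.of Ω) ⟶ Spec (CommRingCat.of k)) (hZ : Z.obj.base = Over.mk s) (α α' : Z ⟶ U.obj)
    (v v' : VG G.1) (hv : ∀ z, ((Mst G).p.map α).left z = v) (hv' : ∀ z, ((Mst G).p.map α').left z = v') :
    Eqv G.1 v.1 v'.1 := by
  obtain ⟨⟨⟨base, C, f, sect, sect_f⟩, map, map_over⟩, property⟩ := Z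
  change base = Over.mk s at hZ
  subst hZ
  obtain ⟨D, hD⟩ := P1 α.hom U.dat
  obtain ⟨D', hD'⟩ := P1 α'.hom U.dat
  obtain ⟨g, hg, -⟩ := P3 D D'
  obtain ⟨h1, w, hw, h2⟩ := P3b hg
  have e1 : D.c = cAt α.hom.hom.base.left := by
    funext i; rw [hD.c i]; exact pb_cAt _ i
  have e2 : D'.c = cAt α'.hom.hom.base.left := by
    funext i; rw [hD'.c i]; exact pb_cAt _ i
  have e3 : D.φ = φAt α.hom.hom.base.left := by
    funext l i; rw [hD.φ l i]; exact pb_φAt _ l i
  have e4 : D'.φ = φAt α'.hom.hom.base.left := by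
    funext l i; rw [hD'.φ l i]; exact pb_φAt _ l i
  have h3 := hg.φ
  rw [e1, e2] at h2
  rw [e3, e4] at h3
  exact eqv_of_isMat (Over.w α.hom.hom.base) (Over.w α'.hom.hom.base) hv hv' g h1 w hw h2 h3

/-- Pullbacks of stable families are stable. -/
theorem stable_of_hom {A B : Fam G} (h : A ⟶ B)
    (hB : StMap.IsStableMapFam B.f B.sect B.sect_f B.map 0 ∧ StMap.IsFibDeg B.f B.map (hypO1 G) 2) :
    StMap.IsStableMapFam A.f A.sect A.sect_f A.map 0 ∧ StMap.IsFibDeg A.f A.map (hypO1 G) 2 := by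
  obtain ⟨⟨h1, h2, h3, h4⟩, h5⟩ := hB
  have hc := h.hom.cart
  refine ⟨⟨MorphismProperty.of_isPullback hc h1, MorphismProperty.of_isPullback hc h2,
    MorphismProperty.of_isPullback hc h3, ?_⟩, ?_⟩
  · intro Ω _ _ t Xt i q hP
    have h6 := h4 Ω (t ≫ h.hom.base.left) Xt (i ≫ h.hom.top) q (hP.paste_horiz hc)
    rw [Category.assoc, h.w_map] at h6
    have h7 : CurvSt.markedPt A.sect A.sect_f hP = CurvSt.markedPt B.sect B.sect_f (hP.paste_horiz hc) :=
      Subsingleton.elim _ _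
    rw [h7]
    exact h6
  · intro Ω _ _ t Xt i q hP
    have h6 := h5 Ω (t ≫ h.hom.base.left) Xt (i ≫ h.hom.top) q (hP.paste_horiz hc)
    rw [Category.assoc, h.w_map] at h6
    exact h6

/-- The pullback of the universal family. -/
noncomputable def pullFam (U : Univ G) (T : Over (Spec (CommRingCat.of k))) (t : T ⟶ VGk G.1) : Fam G where
  base := T
  C := pullback U.f t.left
  f := pullback.snd U.f t.left
  sect := Fin.elim0
  sect_f i := i.elim0
  map := pullback.fst U.f t.left ≫ U.m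
  map_over := by
    rw [Category.assoc, U.m_over, ← Category.assoc, pullback.condition, Category.assoc, Over.w t]

/-- The projection of the pullback of the universal family. -/
noncomputable def pullHom (U : Univ G) (T : Over (Spec (CommRingCat.of k))) (t : T ⟶ VGk G.1) :
    pullFam U T t ⟶ U.fam where
  hom :=
    { base := t
      top := pullback.fst U.f t.left
      cart := IsPullback.of_hasPullback U.f t.left
      w_sect := fun i => i.elim0 }
  w_map := rfl

/-- The pullback of the universal family, as an object of the stack. -/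
noncomputable def pullObj (U : Univ G) (T : Over (Spec (CommRingCat.of k))) (t : T ⟶ VGk G.1) : (Mst G).obj :=
  ⟨pullFam U T t, stable_of_hom (pullHom U T t) ⟨U.stable, U.deg⟩⟩

/-- A field valued point of `VG G` from a ring homomorphism. -/
theorem exists_mor (v : VG G.1) (a : RC G.1 →+* Ω) (h : RingHom.ker a = v.1.asIdeal) :
    ∃ t : Spec (CommRingCat.of Ω) ⟶ VG G.1, t ≫ (VO G.1).ι = Spec.map (CommRingCat.ofHom a) ∧ ∀ z, t z = v := by
  have h1 : ∀ z, (Spec.map (CommRingCat.ofHom a)) z = v.1 := by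
    intro z
    let z' : PrimeSpectrum Ω := z
    have h3 : z'.asIdeal = ⊥ := by
      rcases Ideal.eq_bot_or_top z'.asIdeal with h | h
      · exact h
      · exact absurd h z'.isPrime.ne_top
    refine PrimeSpectrum.ext ?_
    change Ideal.comap a z'.asIdeal = v.1.asIdeal
    rw [h3, ← h]
    rfl
  have h2 : Set.range (Spec.map (CommRingCat.ofHom a)) ⊆ Set.range (VO G.1).ι := by
    rintro _ ⟨z, rfl⟩
    rw [h1 z]
    exact ⟨v, rfl⟩
  refine ⟨IsOpenImmersion.lift (VO G.1).ι (Spec.map (CommRingCat.ofHom a)) h2, IsOpenImmersion.lift_fac _ _ h2, ?_⟩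
  intro z
  apply (VO G.1).ι.isOpenEmbedding.injective
  have h4 := congrArg (fun φ : Spec (CommRingCat.of Ω) ⟶ Spec (CommRingCat.of (RC G.1)) => φ z)
    (IsOpenImmersion.lift_fac (VO G.1).ι (Spec.map (CommRingCat.ofHom a)) h2)
  exact (show _ = _ from h4).trans (h1 z)

/-- Node V8 of `K745.PlanS`. -/
theorem exists_hom_of_eqv (P1 : ∀ {A A' : Fam G} (h : A ⟶ A') (D' : Datum A'), ∃ D : Datum A, IsPull D D' h)
    (P2 : ∀ {A A' : Fam G} (D : Datum A) (D' : Datum A') (b : A.base ⟶ A'.base),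
      (∀ i, D.c i = pb b.left (D'.c i)) → (∀ l i, D.φ l i = pb b.left (D'.φ l i)) →
      ∃! h : A ⟶ A', h.hom.base = b ∧ IsPull D D' h)
    (P4 : ∀ {A : Fam G} (D' : Datum A) (g : Matrix (Fin 3) (Fin 3) Γ(A.base.left, ⊤)), IsUnit g.det →
      ∀ (c : Fin 5 → Γ(A.base.left, ⊤)) (w : Γ(A.base.left, ⊤)), IsUnit w →
      comp3 (qf D'.c) g = MvPolynomial.C w * qf c → ∃ D : Datum A, D.c = c ∧ IsMat D D' g)
    (U : Univ G) (v v' : VG G.1) (h : Eqv G.1 v.1 v'.1) :
    ∃ (Ω : Type u) (_ : Field Ω) (s : Spec (CommRingCat.of Ω) ⟶ Spec (CommRingCat.of k)) (Z : (Mst G).obj)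
      (_ : Z.obj.base = Over.mk s) (α α' : Z ⟶ U.obj),
      (∀ z, ((Mst G).p.map α).left z = v) ∧ (∀ z, ((Mst G).p.map α').left z = v') := by
  obtain ⟨Ω, hΩ, a, a', hk, hk', hs, g, w, hg, hw, hq, hφ⟩ := h
  obtain ⟨t, ht, htv⟩ := exists_mor v a hk
  obtain ⟨t', ht', htv'⟩ := exists_mor v' a' hk'
  let s : Spec (CommRingCat.of Ω) ⟶ Spec (CommRingCat.of k) :=
    Spec.map (CommRingCat.ofHom (a.comp (algebraMap k (RC G.1))))
  have hs' : s = Spec.map (CommRingCat.ofHom (a'.comp (algebraMap k (RC G.1)))) := by rw [← hs]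
  let b : Over.mk s ⟶ VGk G.1 := Over.homMk t (map_algebraMap ht).symm
  let b' : Over.mk s ⟶ VGk G.1 := Over.homMk t' ((map_algebraMap ht').symm.trans hs'.symm)
  obtain ⟨D', hD'⟩ := P1 (pullHom U (Over.mk s) b') U.dat
  have e2 : D'.c = cAt t' := by
    funext i; rw [hD'.c i]; exact pb_cAt _ i
  have e4 : D'.φ = φAt t' := by
    funext l i; rw [hD'.φ l i]; exact pb_φAt _ l i
  have h1 : comp3 (qf D'.c) (g.map (iΩ Ω)) = MvPolynomial.C (iΩ Ω w) * qf (cAt t) := by
    have h1 := congrArg (MvPolynomial.map (iΩ Ω)) hq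
    rw [map_comp3, map_qf, map_mul, map_qf, MvPolynomial.map_C] at h1
    simp only [← cAt_eq ht, ← cAt_eq ht'] at h1
    rw [e2]
    exact h1
  have h2 : IsUnit (g.map (iΩ Ω)).det := by
    have h3 := RingHom.map_det (iΩ Ω) g
    have h4 : g.map (iΩ Ω) = (iΩ Ω).mapMatrix g := rfl
    rw [h4, ← h3]
    exact hg.map _
  obtain ⟨D, hDc, hDm⟩ := P4 D' (g.map (iΩ Ω)) h2 (cAt t) (iΩ Ω w) ((IsUnit.mk0 w hw).map (iΩ Ω)) h1
  have e3 : D.φ = φAt t := by
    funext l j
    rw [hDm.φ l j, e4, φAt_eq ht, hφ l j, map_sum]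
    refine Finset.sum_congr rfl fun i _ => ?_
    rw [φAt_eq ht', map_mul]
    rfl
  obtain ⟨h, ⟨hb, -⟩, -⟩ := P2 D U.dat b (fun i => by rw [hDc]; exact (pb_cAt t i).symm)
    (fun l i => by rw [e3]; exact (pb_φAt t l i).symm)
  refine ⟨Ω, hΩ, s, pullObj U (Over.mk s) b', rfl, ObjectProperty.homMk h, ObjectProperty.homMk (pullHom U (Over.mk s) b'),
    ?_, ?_⟩
  · intro z
    change h.hom.base.left z = v
    rw [hb]
    exact htv z
  · intro z
    exact htv' z

end K464.StEqv
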